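import Groth.Prelude.Def_AlgGrp
import Groth.Agent.FEtLib.EqLocus
import Groth.Agent.SGA3cLib.GeomConn
import Mathlib.AlgebraicGeometry.AlgClosed.Basic
import Mathlib.AlgebraicGeometry.Geometrically.Connected
import Mathlib.FieldTheory.IsAlgClosed.AlgebraicClosure

/-!
# Étale equivariant morphisms reflect fixed points of groups with connected fibres
-/

set_option autoImplicit false

universe u

open CategoryTheory CategoryTheory.Limits AlgebraicGeometry MonoidalCategory CartesianMonoidalCategory MonObj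

namespace Groth.Agent.GrpActLib

set_option maxHeartbeats 800000
set_option backward.isDefEq.respectTransparency.types false

variable {S : Scheme.{u}} {G X Y : Over S} [GrpObj G]

/-- The action on `T`-points is associative. -/
theorem lift_mul_act (a : AlgGrp.Action G X) {T : Over S} (g h : T ⟶ G) (x : T ⟶ X) :
    lift (lift g h ≫ μ[G]) x ≫ a.act = lift g (lift h x ≫ a.act) ≫ a.act := by
  have h1 : lift (lift g h) x ≫ (μ[G] ▷ X) = lift (lift g h ≫ μ[G]) x := lift_whiskerRight _ _ _
  rw [← h1, Category.assoc, a.mul_act]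
  simp

/-- The unit acts trivially on `T`-points. -/
theorem lift_one_act (a : AlgGrp.Action G X) {T : Over S} (x : T ⟶ X) :
    lift (toUnit T ≫ η[G]) x ≫ a.act = x := by
  rw [← lift_whiskerRight, Category.assoc, a.one_act, lift_leftUnitor_hom]

/-- The points of a group with connected fibres over a field form a connected space. -/
theorem connectedSpace_tensor_point (hconn : ∀ s : S, ConnectedSpace (G.hom.fiber s)) (K : Type u) [Field K]
    (π : Spec (CommRingCat.of K) ⟶ S) : ConnectedSpace ↥(pullback G.hom π) := by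
  let z : Spec (CommRingCat.of K) := IsLocalRing.closedPoint K
  let s : S := π z
  let f := G.hom.fiberToSpecResidueField s
  have := hconn s
  let e : Spec (S.residueField s) ⟶ G.hom.fiber s :=
    pullback.lift (f := G.hom) (g := S.fromSpecResidueField s) (S.fromSpecResidueField s ≫ η[G].left) (𝟙 _)
      (by rw [Category.assoc, Over.w η[G]]; simp)
  have : GeometricallyConnected (𝟙 (G.hom.fiber s) ≫ f) :=
    SGA3cLib.geometricallyConnected_of_rational_point (S.residueField s) f (𝟙 _) e (pullback.lift_snd _ _ _)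
      (by simp [Set.range_id])
  rw [Category.id_comp] at this
  obtain ⟨φ, hφ⟩ : ∃ φ : Spec (CommRingCat.of K) ⟶ Spec (S.residueField s), φ ≫ S.fromSpecResidueField s = π := by
    obtain ⟨⟨x, φ⟩, hx⟩ := (Scheme.SpecToEquivOfField K S).symm.surjective π
    have hxs : x = s := by
      show x = π z
      rw [← hx]
      show x = (Spec.map φ ≫ S.fromSpecResidueField x) z
      rw [Scheme.Hom.comp_apply, Scheme.fromSpecResidueField_apply]
    subst hxs
    exact ⟨Spec.map φ, hx⟩
  have h1 : ConnectedSpace ↥(pullback f φ) :=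
    GeometricallyConnected.geometrically_connectedSpace _ _ _ (IsPullback.of_hasPullback f φ)
  have sq : IsPullback (pullback.fst f φ ≫ pullback.fst G.hom (S.fromSpecResidueField s)) (pullback.snd f φ)
      G.hom π := by
    rw [← hφ]
    exact IsPullback.paste_horiz (IsPullback.of_hasPullback f φ) (IsPullback.of_hasPullback G.hom _)
  exact sq.isoPullback.hom.homeomorph.connectedSpace_iff.mp h1

variable [LocallyOfFiniteType G.hom]

/-- Over an algebraically closed field, étale equivariant maps reflect fixed points. -/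
theorem fixed_of_point (hconn : ∀ s : S, ConnectedSpace (G.hom.fiber s)) (a : AlgGrp.Action G X)
    (b : AlgGrp.Action G Y) (f : X ⟶ Y) [Etale f.left] (hf : a.act ≫ f = (G ◁ f) ≫ b.act) (K : Type u) [Field K]
    [IsAlgClosed K] (π : Spec (CommRingCat.of K) ⟶ S) (x : Over.mk π ⟶ X)
    (hx : ∀ (T : Over S) (t : T ⟶ Over.mk π) (g : T ⟶ G), lift g (t ≫ x ≫ f) ≫ b.act = t ≫ x ≫ f)
    (g : Over.mk π ⟶ G) : lift g x ≫ a.act = x := by
  let Kobj : Over S := Over.mk π
  let H : Over S := G ⊗ Kobj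
  let pG : H ⟶ G := fst _ _
  let pK : H ⟶ Kobj := snd _ _
  let v : H ⟶ X := pK ≫ x
  have heqv : ∀ {T : Over S} (q : T ⟶ G) (y : T ⟶ X), (lift q y ≫ a.act) ≫ f = lift q (y ≫ f) ≫ b.act := by
    intro T q y
    rw [Category.assoc, hf, lift_whiskerLeft_assoc]
  have hw : ∀ q : H ⟶ G, ((lift q v) ≫ a.act).left ≫ f.left = v.left ≫ f.left := by
    intro q
    rw [← Over.comp_left, ← Over.comp_left, heqv q v, Category.assoc, hx H pK q]
  let E : (Kobj ⟶ G) → H.left.Opens := fun c =>
    FEtLib.eqLocus f.left (lift (lift (pK ≫ c) pG ≫ μ[G]) v ≫ a.act).left v.left (hw _)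
  let pt : (Kobj ⟶ G) → (Spec (CommRingCat.of K) ⟶ H.left) := fun h => (lift h (𝟙 Kobj)).left
  let z : Spec (CommRingCat.of K) := IsLocalRing.closedPoint K
  have hcomp : ∀ (c h : Kobj ⟶ G), lift h (𝟙 Kobj) ≫ lift (lift (pK ≫ c) pG ≫ μ[G]) v ≫ a.act =
      lift c (lift h x ≫ a.act) ≫ a.act := by
    intro c h
    have e1 : lift h (𝟙 Kobj) ≫ pK = 𝟙 Kobj := lift_snd _ _
    have e2 : lift h (𝟙 Kobj) ≫ pG = h := lift_fst _ _
    rw [← lift_mul_act, comp_lift_assoc, comp_lift_assoc, ← Category.assoc _ pK c, e1, e2,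
      show lift h (𝟙 Kobj) ≫ v = x from by rw [← Category.assoc, e1, Category.id_comp], Category.id_comp]
  have hv : ∀ h : Kobj ⟶ G, lift h (𝟙 Kobj) ≫ v = x := fun h => by simp [pK, v]
  have hmem : ∀ c h : Kobj ⟶ G, pt h z ∈ E c ↔ lift c (lift h x ≫ a.act) ≫ a.act = x := by
    intro c h
    constructor
    · intro hz
      apply Over.OverMorphism.ext
      have hr : Set.range (pt h) ⊆ Set.range (E c).ι := by
        rintro _ ⟨y, rfl⟩
        rw [Scheme.Opens.range_ι, Subsingleton.elim y z]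
        exact hz
      have h2 := congrArg (IsOpenImmersion.lift (E c).ι (pt h) hr ≫ ·) (FEtLib.ι_comp_eq f.left
        (lift (lift (pK ≫ c) pG ≫ μ[G]) v ≫ a.act).left v.left (hw _))
      simp only [← Category.assoc, E, IsOpenImmersion.lift_fac] at h2
      rw [← hcomp, ← Over.comp_left] at *
      exact h2.trans (congrArg CommaMorphism.left (hv h))
    · intro heq
      refine FEtLib.mem_of_comp_eq _ _ _ _ (pt h) ?_ z
      rw [← Over.comp_left, ← Over.comp_left]
      exact congrArg CommaMorphism.left ((hcomp c h).trans (heq.trans (hv h).symm))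
  have hH : ConnectedSpace H.left := connectedSpace_tensor_point hconn K π
  have : LocallyOfFiniteType pK.left :=
    MorphismProperty.pullback_snd (P := @LocallyOfFiniteType) G.hom π inferInstance
  have : JacobsonSpace Kobj.left := inferInstanceAs (JacobsonSpace (Spec (CommRingCat.of K)))
  have : JacobsonSpace H.left := LocallyOfFiniteType.jacobsonSpace pK.left
  have hrat : ∀ p : H.left, IsClosed ({p} : Set H.left) → ∃ h : Kobj ⟶ G, pt h z = p := by
    intro p hp
    let σ := pointOfClosedPoint pK.left p hp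
    have hσ : σ ≫ pK.left = 𝟙 _ := pointOfClosedPoint_comp _ _ _
    let σ' : Kobj ⟶ H := Over.homMk σ (by
      rw [← Over.w pK, ← Category.assoc]
      exact (congrArg (· ≫ Kobj.hom) hσ).trans (Category.id_comp _))
    refine ⟨σ' ≫ pG, ?_⟩
    have : lift (σ' ≫ pG) (𝟙 Kobj) = σ' :=
      CartesianMonoidalCategory.hom_ext _ _ (by simp [pG]) (by
        rw [lift_snd]; exact (Over.OverMorphism.ext hσ).symm)
    show (lift (σ' ≫ pG) (𝟙 Kobj)).left z = p
    rw [this]
    exact pointOfClosedPoint_apply _ _ _ z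
  let one : Kobj ⟶ G := toUnit Kobj ≫ η[G]
  have hone : ∀ h : Kobj ⟶ G, pt h z ∈ E one ↔ lift h x ≫ a.act = x := fun h => by
    rw [hmem, lift_one_act]
  have hinv : ∀ (c : Kobj ⟶ G) (y : Kobj ⟶ X), lift (c ≫ GrpObj.inv) (lift c y ≫ a.act) ≫ a.act = y := by
    intro c y
    rw [← lift_mul_act, GrpObj.lift_comp_inv_left, lift_one_act]
  let O : H.left.Opens := ⨆ (h : Kobj ⟶ G) (_ : pt h z ∉ E one), E (h ≫ GrpObj.inv)
  have hEO : ∀ p, p ∈ E one → p ∉ O := by
    intro p hpE hpO
    obtain ⟨h, hh⟩ := TopologicalSpace.Opens.mem_iSup.1 hpO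
    obtain ⟨hhE, hpE'⟩ := TopologicalSpace.Opens.mem_iSup.1 hh
    obtain ⟨q, ⟨hq, hq'⟩, hqc⟩ := nonempty_inter_closedPoints (Z := ((E one ⊓ E (h ≫ GrpObj.inv) : H.left.Opens) : Set H.left))
      ⟨p, hpE, hpE'⟩ (E one ⊓ E (h ≫ GrpObj.inv)).isOpen.isLocallyClosed
    obtain ⟨h', rfl⟩ := hrat q hqc
    rw [SetLike.mem_coe, hone] at hq
    rw [SetLike.mem_coe, hmem, hq] at hq'
    refine hhE ((hone h).2 ?_)
    conv_lhs => rw [← hq']
    rw [← lift_mul_act, GrpObj.lift_comp_inv_right, lift_one_act]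
  have hcl : IsClosed (E one : Set H.left) := by
    rw [← isOpen_compl_iff]
    have : (E one : Set H.left)ᶜ = O := by
      ext p
      refine ⟨fun hp => ?_, fun hp hpE => hEO p hpE hp⟩
      by_contra hpO
      obtain ⟨q, ⟨hq, hq'⟩, hqc⟩ := nonempty_inter_closedPoints (Z := (E one : Set H.left)ᶜ ∩ (O : Set H.left)ᶜ)
        ⟨p, hp, hpO⟩ ((E one).isOpen.isClosed_compl.inter O.isOpen.isClosed_compl).isLocallyClosed
      obtain ⟨h', rfl⟩ := hrat q hqc
      refine hq' (TopologicalSpace.Opens.mem_iSup.2 ⟨h', TopologicalSpace.Opens.mem_iSup.2 ⟨hq, ?_⟩⟩)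
      rw [hmem, hinv]
    rw [this]
    exact O.isOpen
  have htop : (E one : Set H.left) = Set.univ :=
    IsClopen.eq_univ ⟨hcl, (E one).isOpen⟩ ⟨pt one z, (hone one).2 (lift_one_act a x)⟩
  exact (hone g).1 (htop.ge trivial)

/-- **Étale equivariant maps reflect fixed points.** -/
theorem fixed_of_etale (hconn : ∀ s : S, ConnectedSpace (G.hom.fiber s)) (a : AlgGrp.Action G X)
    (b : AlgGrp.Action G Y) (f : X ⟶ Y) [Etale f.left] (hf : a.act ≫ f = (G ◁ f) ≫ b.act) (T : Over S) (x : T ⟶ X)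
    (hx : ∀ (T' : Over S) (t : T' ⟶ T) (g : T' ⟶ G), lift g (t ≫ x ≫ f) ≫ b.act = t ≫ x ≫ f)
    (T' : Over S) (t : T' ⟶ T) (g : T' ⟶ G) : lift g (t ≫ x) ≫ a.act = t ≫ x := by
  have hw : (lift g (t ≫ x) ≫ a.act).left ≫ f.left = (t ≫ x).left ≫ f.left := by
    rw [← Over.comp_left, ← Over.comp_left, Category.assoc, hf, lift_whiskerLeft_assoc, Category.assoc, hx]
  apply Over.OverMorphism.ext
  refine FEtLib.eq_of_eqLocus_eq_top f.left _ _ hw (top_unique fun p _ => ?_)
  let K := AlgebraicClosure (T'.left.residueField p)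
  let σ : Spec (CommRingCat.of K) ⟶ T'.left :=
    Spec.map (CommRingCat.ofHom (algebraMap (T'.left.residueField p) K)) ≫ T'.left.fromSpecResidueField p
  have hσ : σ (IsLocalRing.closedPoint K) = p := Scheme.fromSpecResidueField_apply p _
  let σ' : Over.mk (σ ≫ T'.hom) ⟶ T' := Over.homMk σ rfl
  have := fixed_of_point hconn a b f hf K (σ ≫ T'.hom) (σ' ≫ t ≫ x) (fun T'' t'' g'' => by
    simpa only [Category.assoc] using hx T'' (t'' ≫ σ' ≫ t) g'') (σ' ≫ g)
  rw [← hσ]
  refine FEtLib.mem_of_comp_eq _ _ _ _ σ ?_ _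
  have h2 : σ' ≫ lift g (t ≫ x) ≫ a.act = σ' ≫ t ≫ x := by
    rw [← Category.assoc, comp_lift]
    exact this
  exact congrArg CommaMorphism.left h2

end Groth.Agent.GrpActLib
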